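import Cfsg.Agent.BG.B11
import Cfsg.Agent.Fgs2.AutP
import Cfsg.Agent.Fgs1.PGroup
import Cfsg.Agent.Transfer.Frobenius

/-! Generator rank of `p`-groups and automizers. -/

namespace CF.Fgs3

open Subgroup CF.BG

variable {G : Type*} [Group G]

theorem index_frattini_dvd [Finite G] {p : ℕ} [Fact p.Prime] (hG : IsPGroup p G) :
    (frattini G).index ∣ p ^ Group.rank G := by
  letI : CommGroup (G ⧸ frattini G) :=
    { (inferInstance : Group (G ⧸ frattini G)) with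
      mul_comm := (Subgroup.Normal.quotient_commutative_iff_commutator_le.2
        (CF.Fgs1.commutator_le_frattini hG)).1.1 }
  have h := card_dvd_exponent_pow_rank' (G ⧸ frattini G) (n := p) (by
    intro g
    obtain ⟨g, rfl⟩ := QuotientGroup.mk_surjective g
    rw [← QuotientGroup.mk_pow, QuotientGroup.eq_one_iff]
    exact CF.Fgs1.pow_mem_frattini hG g)
  exact h.trans (pow_dvd_pow _ (Group.rank_le_of_surjective _ (QuotientGroup.mk'_surjective _)))

/-- a prime `q ≠ p` dividing the order of the automorphism group of a `p`-group with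
`|G : Φ(G)| ∣ p ^ d` divides `p ^ i - 1` for some `1 ≤ i ≤ d`. -/
theorem exists_dvd_of_dvd_card_mulAut [Finite G] {p d q : ℕ} [hp : Fact p.Prime]
    (hG : IsPGroup p G) (hd : (frattini G).index ∣ p ^ d) (hq : q.Prime) (hqp : q ≠ p)
    (h : q ∣ Nat.card (MulAut G)) : ∃ i, 1 ≤ i ∧ i ≤ d ∧ q ∣ p ^ i - 1 := by
  obtain ⟨n, hn⟩ := hG.exists_card_eq
  obtain ⟨r, hr, hr'⟩ := (Nat.dvd_prime_pow hp.out).1 hd
  have h1 := h.trans (CF.Fgs2.card_mulAut_dvd hn hr')
  have h2 : ∀ k, ¬ q ∣ p ^ k := fun k hk =>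
    hqp ((Nat.prime_dvd_prime_iff_eq hq hp.out).1 (hq.dvd_of_dvd_pow hk))
  rcases (Nat.Prime.dvd_mul hq).1 h1 with h3 | h3
  · exact absurd h3 (h2 _)
  obtain ⟨i, hi, h4⟩ := (Prime.dvd_finsetProd_iff hq.prime _).1 h3
  rw [Finset.mem_range] at hi
  have e : p ^ r - p ^ i = p ^ i * (p ^ (r - i) - 1) := by
    rw [Nat.mul_sub_one, ← pow_add, Nat.add_sub_cancel' hi.le]
  rw [e] at h4
  rcases (Nat.Prime.dvd_mul hq).1 h4 with h5 | h5
  · exact absurd h5 (h2 _)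
  exact ⟨r - i, by omega, by omega, h5⟩

/-- ambient form -/
theorem exists_dvd_of_dvd_relIndex_cent [Finite G] {p d q : ℕ} (hp : p.Prime) {P A : Subgroup G}
    (hP : PiGrp {p} P) (hd : (𝚽 P).relIndex P ∣ p ^ d) (hA : A ≤ 𝐍 P) (hq : q.Prime) (hqp : q ≠ p)
    (h : q ∣ (𝐂 P).relIndex A) : ∃ i, 1 ≤ i ∧ i ≤ d ∧ q ∣ p ^ i - 1 := by
  haveI : Fact p.Prime := ⟨hp⟩
  refine exists_dvd_of_dvd_card_mulAut hP.isPGroup ?_ hq hqp
    (h.trans (relIndex_cent_dvd_card_aut hA))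
  have : (𝚽 P).subgroupOf P = frattini P := comap_map_eq_self_of_injective P.subtype_injective _
  rwa [relIndex, this] at hd

theorem relIndex_Phi_dvd_rank [Finite G] {p : ℕ} (hp : p.Prime) {P : Subgroup G}
    (hP : PiGrp {p} P) : (𝚽 P).relIndex P ∣ p ^ Group.rank P := by
  haveI : Fact p.Prime := ⟨hp⟩
  have : (𝚽 P).subgroupOf P = frattini P := comap_map_eq_self_of_injective P.subtype_injective _
  rw [relIndex, this]
  exact index_frattini_dvd hP.isPGroup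

/-- `|P : Φ(P)|` divides `p * |P : C|` for a cyclic subgroup `C`. -/
theorem relIndex_Phi_dvd_of_cyc [Finite G] {p : ℕ} (hp : p.Prime) {P C : Subgroup G}
    (hP : PiGrp {p} P) (hC : C ≤ P) (c : Cyc C) : (𝚽 P).relIndex P ∣ p * C.relIndex P := by
  have hn : P ≤ 𝐍 (𝚽 P) := (Phi_normal P).norm
  have h1 : (𝚽 P).relIndex (𝚽 P ⊔ C) ∣ p := by
    rw [relIndex_sup_norm' (Or.inl (hC.trans hn)), ← card_qt (hC.trans hn)]
    have a : Abelem p (qt (𝚽 P) C) := hP.abelem_qt_Phi.le (qt_mono _ hC)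
    have b := a.cyc_iff.1 (c.qt _)
    rw [a.pi.card_eq]
    exact (pow_dvd_pow p b).trans (pow_one p).dvd
  rw [← relIndex_mul_relIndex (𝚽 P) (𝚽 P ⊔ C) P le_sup_left (sup_le (Phi_le P) hC)]
  exact Nat.mul_dvd_mul h1 (relIndex_dvd_left P le_sup_right)

theorem hasNPC_iff [Finite G] {p : ℕ} (hp : p.Prime) :
    Cfsg.HasNormalPComplement p G ↔ NPC p (⊤ : Subgroup G) := by
  rw [npc_iff hp]
  haveI : Fact p.Prime := ⟨hp⟩
  exact (CF.Transfer.hasNPC_congr Subgroup.topEquiv).symm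

end CF.Fgs3
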