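import Cfsg.Agent.Fgs3.NoFour

/-! Groups whose class sizes have small `p`-part. -/

namespace CF.Fgs3

open Subgroup CF.BG
open scoped commutatorElement Pointwise

variable {G : Type*} [Group G] [Finite G] {p : ℕ}

theorem der_le_of_relIndex_dvd (hp : p.Prime) {P K : Subgroup G} (hP : PiGrp {p} P) (hK : K ≤ P)
    (h : K.relIndex P ∣ p) : P ≤ 𝐍 K ∧ ⁅P, P⁆ ≤ K := by
  have h1 : logn p (K.relIndex P) ≤ 1 := (logn_le_of_dvd h hp.ne_zero).trans (logn_self hp).le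
  have n : P ≤ 𝐍 K := hP.norm_of_logn hK (by rw [logn_card_eq_add hK]; omega)
  exact ⟨n, (abel_qt_iff n).1 ((hP.qt K).cyc_of_logn (by rwa [card_qt n])).abel⟩

/-- Knoche: a `p`-group with class sizes at most `p` has derived subgroup of order at most `p`. -/
theorem card_der_dvd_of_class (hp : p.Prime) {P : Subgroup G} (hP : PiGrp {p} P)
    (h : ∀ x ∈ P, (𝐂₁ x).relIndex P ∣ p) : ♯⁅P, P⁆ ∣ p := by
  have hc : ⁅P, P⁆ ≤ 𝐂 P := by
    refine cent_symm fun x hx => le_cent1_iff.1 ?_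
    exact (der_le_of_relIndex_dvd hp hP (inf_le_right : 𝐂₁ x ⊓ P ≤ P)
      (by rw [inf_relIndex_right]; exact h x hx)).2.trans inf_le_left
  have hmul : ∀ x ∈ P, ∀ g ∈ P, ∀ k ∈ P, ⁅x, g * k⁆ = ⁅x, g⁆ * ⁅x, k⁆ := by
    intro x hx g hg k hk
    have := mem_cent.1 (hc (commutator_mem_commutator hx hk)) g hg
    calc ⁅x, g * k⁆ = ⁅x, g⁆ * (g * ⁅x, k⁆ * g⁻¹) := by simp only [commutatorElement_def]; group
      _ = _ := by rw [this]; group
  let φ : P → (P →* G) := fun x => MonoidHom.mk' (fun g => ⁅(x : G), (g : G)⁆)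
    fun g k => hmul x x.2 g g.2 k k.2
  have hφ : ∀ x : P, ♯(φ x).range ∣ p := by
    intro x
    rw [← index_ker]
    have : (φ x).ker = (𝐂₁ (x : G)).subgroupOf P := by
      ext g
      rw [MonoidHom.mem_ker, mem_subgroupOf, mem_cent1]
      exact (commutatorElement_eq_one_iff_mul_comm (g₁ := (x : G)) (g₂ := (g : G))).trans eq_comm
    rw [this]
    exact h x x.2
  have hpr : ∀ x g : P, ⁅(x : G), (g : G)⁆ ≠ 1 → (♯(φ x).range).Prime := by
    intro x g hg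
    rcases (Nat.dvd_prime hp).1 (hφ x) with h1 | h1
    · exact absurd (eq_one_of_mem_bot (card_eq_one'.1 h1) ⟨g, rfl⟩) hg
    · rwa [h1]
  have heq : ∀ x g : P, ⁅(x : G), (g : G)⁆ ≠ 1 → (φ x).range ≤ (φ g).range := by
    intro x g hg
    refine le_of_prime_of_inf_ne_bot (hpr x g hg) (ne_bot_of_mem ⟨⟨g, rfl⟩, ?_⟩ hg)
    show ⁅(x : G), (g : G)⁆ ∈ (φ g).range
    rw [← commutatorElement_inv]
    exact inv_mem ⟨x, rfl⟩
  have hsymm : ∀ x g : G, ⁅x, g⁆ ≠ 1 → ⁅g, x⁆ ≠ 1 := fun x g h h' => h (by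
    rw [← commutatorElement_inv, h', inv_one])
  by_cases h0 : ∃ x g : P, ⁅(x : G), (g : G)⁆ ≠ 1
  · obtain ⟨x, g, hg⟩ := h0
    refine (card_dvd (commutator_le.2 fun y hy k hk => ?_)).trans (hφ x)
    by_cases hyk : ⁅y, k⁆ = 1
    · rw [hyk]; exact one_mem _
    have key : ∀ l : P, ⁅(x : G), (l : G)⁆ ≠ 1 → ⁅y, (l : G)⁆ ≠ 1 → ⁅y, k⁆ ∈ (φ x).range :=
      fun l h1 h2 => heq l x (hsymm _ _ h1) (heq ⟨y, hy⟩ l h2 ⟨⟨k, hk⟩, rfl⟩)
    by_cases h1 : ⁅y, (g : G)⁆ = 1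
    swap
    · exact key g hg h1
    by_cases h2 : ⁅(x : G), k⁆ = 1
    swap
    · exact key ⟨k, hk⟩ h2 hyk
    refine key (g * ⟨k, hk⟩) ?_ ?_
    · show ⁅(x : G), g * k⁆ ≠ 1
      rwa [hmul x x.2 g g.2 k hk, h2, mul_one]
    · show ⁅y, g * k⁆ ≠ 1
      rwa [hmul y hy g g.2 k hk, h1, one_mul]
  · push Not at h0
    have : ⁅P, P⁆ = ⊥ := le_bot_iff.1 (commutator_le.2 fun y hy k hk => h0 ⟨y, hy⟩ ⟨k, hk⟩)
    rw [this, card_bot]
    exact one_dvd _

/-- A coprime, abelian-acting group of "reflections" has a commutator of order at most `p`. -/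
theorem card_comm_dvd_of_refl (hp : p.Prime) {V A : Subgroup G} (hV : Abel V) (n : A ≤ 𝐍 V)
    (c : (♯A).Coprime (♯V)) (hA : ⁅A, A⁆ ≤ 𝐂 V) (h : ∀ a ∈ A, (𝐂₁ a).relIndex V ∣ p) :
    ♯⁅V, A⁆ ∣ p := by
  let L : G → Subgroup G := fun a => ⁅V, zpowers a⁆
  have na : ∀ a ∈ A, zpowers a ≤ 𝐍 V := fun a ha => (zpowers_le.2 ha).trans n
  have ca : ∀ a ∈ A, (♯(zpowers a)).Coprime (♯V) := fun a ha =>
    coprime_mono c (zpowers_le.2 ha) le_rfl
  have hLV : ∀ a ∈ A, L a ≤ V := fun a ha => comm_le_left (na a ha)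
  have hcard : ∀ a ∈ A, ♯(L a) ∣ p := by
    intro a ha
    rw [← (hV.dprod_cent_comm (na a ha) (ca a ha)).sdprod.relIndex_left, inf_comm,
      inf_relIndex_right, cent_zpowers]
    exact h a ha
  have hLC : ∀ a ∈ A, L a ⊓ 𝐂₁ a = ⊥ := fun a ha => by
    rw [← cent_zpowers]; exact hV.comm_inf_cent (na a ha) (ca a ha)
  have hnorm : ∀ a ∈ A, A ≤ 𝐍 (L a) := by
    intro a ha
    refine le_norm_of_cj_le fun b hb => ?_
    rw [cj_comm, cj_of_norm (n hb), cj_zpowers, commutator_comm]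
    refine (le_centMod.1 (zpowers_le.2 ?_)).2
    rw [show b * a * b⁻¹ = ⁅b, a⁆ * a by simp only [commutatorElement_def]; group]
    refine mul_mem (le_centMod.2 ⟨norm_of_cent (cent_anti (hLV a ha)), ?_⟩
      (hA (commutator_mem_commutator hb ha)))
      (le_centMod.2 ⟨norm_comm_right _ _, (commutator_comm _ _).le⟩ (mem_zpowers a))
    rw [comm_eq_bot.2 le_rfl]
    exact bot_le
  have hcent : ∀ a ∈ A, ∀ b ∈ A, L a ⊓ L b = ⊥ → L a ≤ 𝐂₁ b := by
    intro a ha b hb e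
    rw [← cent_zpowers, ← comm_eq_bot, ← le_bot_iff, ← e]
    exact le_inf (comm_le_left ((zpowers_le.2 hb).trans (hnorm a ha)))
      (commutator_mono (hLV a ha) le_rfl)
  have hle : ∀ a ∈ A, ∀ b ∈ A, L a ≠ ⊥ → L b ≤ L a := by
    intro a ha b hb h1
    by_cases h2 : L b = ⊥
    · rw [h2]; exact bot_le
    have pa := ((Nat.dvd_prime hp).1 (hcard a ha)).resolve_left fun e => h1 (card_eq_one'.1 e)
    have pb := ((Nat.dvd_prime hp).1 (hcard b hb)).resolve_left fun e => h2 (card_eq_one'.1 e)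
    refine (inf_eq_bot_or_le_of_prime (pb ▸ hp) (L a)).resolve_left fun e => ?_
    have e' : L a ⊓ L b = ⊥ := by rwa [inf_comm]
    have d := SDProd.mk' ((hLV b hb).trans (hV.le_norm (hLV a ha))) e'
    have d' := (d.inf_cent1 (hnorm a ha (mul_mem ha hb)) (hnorm b hb (mul_mem ha hb))).sup
    have e1 : L a ⊓ 𝐂₁ (a * b) = ⊥ := by
      refine eq_bot_mono (hLC a ha) fun v hv => ⟨hv.1, mem_cent1.2 ?_⟩
      have h3 := mem_cent1.1 hv.2
      have h4 := mem_cent1.1 (hcent a ha b hb e' hv.1)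
      rw [← mul_assoc, mul_assoc a, ← h4, ← mul_assoc] at h3
      exact mul_right_cancel h3
    have e2 : L b ⊓ 𝐂₁ (a * b) = ⊥ := by
      refine eq_bot_mono (hLC b hb) fun v hv => ⟨hv.1, mem_cent1.2 ?_⟩
      have h3 := mem_cent1.1 hv.2
      have h4 := mem_cent1.1 (hcent b hb a ha e hv.1)
      rw [← mul_assoc, h4, mul_assoc, mul_assoc] at h3
      exact mul_left_cancel h3
    rw [e1, e2, sup_bot_eq] at d'
    have h5 := relIndex_le_of_le_right (H := 𝐂₁ (a * b)) (sup_le (hLV a ha) (hLV b hb))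
      (relIndex_ne_zero' _ _)
    rw [relIndex_of_inf_bot (by rw [inf_comm, ← d']), ← d.card, pa, pb] at h5
    have h6 := Nat.le_of_dvd hp.pos (h _ (mul_mem ha hb))
    have := hp.two_le
    nlinarith
  by_cases h0 : ∃ a ∈ A, L a ≠ ⊥
  · obtain ⟨a, ha, h1⟩ := h0
    exact (card_dvd (commutator_le.2 fun v hv b hb => hle a ha b hb h1
      (commutator_mem_commutator hv (mem_zpowers b)))).trans (hcard a ha)
  · push Not at h0
    have : ⁅V, A⁆ = ⊥ := le_bot_iff.1 (commutator_le.2 fun v hv b hb =>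
      h0 b hb ▸ commutator_mem_commutator hv (mem_zpowers b))
    rw [this, card_bot]
    exact one_dvd _

/-- The class size condition restricted to a normal `p`-subgroup. -/
theorem relIndex_dvd_prime (hp : p.Prime) {H P : Subgroup G} (hP : PiGrp {p} P) (n : P ⊴ H)
    {x : G} (h : ¬ p ^ 2 ∣ (𝐂₁ x).relIndex H) : (𝐂₁ x).relIndex P ∣ p := by
  have h1 : (𝐂₁ x).relIndex P ∣ (𝐂₁ x).relIndex H := by
    rw [← inf_relIndex_right (𝐂₁ x) H]
    refine dvd_trans ?_ (relIndex_dvd_right (le_sup_left : 𝐂₁ x ⊓ H ≤ (𝐂₁ x ⊓ H) ⊔ P)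
      (sup_le inf_le_right n.le))
    rw [relIndex_sup_norm' (Or.inr (inf_le_right.trans n.norm)), ← inf_relIndex_right (𝐂₁ x ⊓ H),
      inf_assoc, inf_eq_right.2 n.le, inf_relIndex_right]
  obtain ⟨k, hk⟩ := (hP.relIndex (𝐂₁ x)).exists_pow (relIndex_ne_zero' _ _)
  rw [hk] at h1 ⊢
  have : k ≤ 1 := by
    by_contra h2
    exact h ((pow_dvd_pow p (by omega)).trans h1)
  simpa using pow_dvd_pow p this

theorem card_der_dvd_of_pi (hp : p.Prime) {H : Subgroup G} (hd : PiGrp {p} ⁅H, H⁆)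
    (h : ∀ x ∈ H, ¬ p ^ 2 ∣ (𝐂₁ x).relIndex H) : ♯⁅H, H⁆ ∣ p := by
  obtain ⟨P, hP⟩ := exists_syl p H
  have hdP : ⁅H, H⁆ ≤ P := hP.le_of_normal (der_normal H) hd
  have n : P ⊴ H := normalIn_of_der_le hP.le hdP
  obtain ⟨A, sd, hA⟩ := hP.exists_compl n.norm
  have h1 : ∀ x ∈ H, (𝐂₁ x).relIndex P ∣ p := fun x hx => relIndex_dvd_prime hp hP.pi n (h x hx)
  have hAA : ⁅A, A⁆ = ⊥ :=
    eq_bot_mono sd.inf (le_inf ((der_mono hA.le).trans hdP) (der_le A))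
  by_cases hc : A ≤ 𝐂 P
  · have h2 : ⁅H, H⁆ ≤ ⁅P, P⁆ := by
      have nP : P ≤ 𝐍 ⁅P, P⁆ := n.der.norm.trans' n.le
      have nA : A ≤ 𝐍 ⁅P, P⁆ := n.der.norm.trans' hA.le
      conv_lhs => rw [← sd.sup]
      refine comm_sup_le (comm_sup_le' le_rfl ?_ nP nA) (comm_sup_le' ?_ ?_ nP nA) nP nA
      · rw [comm_eq_bot'.2 hc]; exact bot_le
      · rw [comm_eq_bot.2 hc]; exact bot_le
      · rw [hAA]; exact bot_le
    exact (card_dvd h2).trans (card_der_dvd_of_class hp hP.pi fun x hx => h1 x (hP.le hx))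
  obtain ⟨a, ha, hac⟩ := SetLike.not_le_iff_exists.1 hc
  set C := 𝐂₁ a ⊓ P with hC
  have hCP : C ≤ P := inf_le_right
  have hCi : C.relIndex P = p := by
    rw [hC, inf_relIndex_right]
    refine ((Nat.dvd_prime hp).1 (h1 a (hA.le ha))).resolve_left fun e => hac ?_
    exact le_cent1_iff.1 (relIndex_eq_one.1 e)
  obtain ⟨nC, dC⟩ := der_le_of_relIndex_dvd hp hP.pi hCP hCi.dvd
  have za : zpowers a ≤ 𝐍 P := (zpowers_le.2 ha).trans sd.norm
  have hCa : C ≤ 𝐂 (zpowers a) := by rw [cent_zpowers]; exact inf_le_left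
  have hCC : Abel C := by
    intro x hx
    refine le_cent1_iff.1 ?_
    have h2 := h1 (x * a) (mul_mem (hP.le (hCP hx)) (hA.le ha))
    rw [cent1_mul (mem_cent1.1 hx.1) ((hP.pi.elt hx.2).coprime (hA.pi.elt ha)),
      ← inf_relIndex_right, inf_assoc, ← hC,
      ← relIndex_mul_relIndex _ C P inf_le_right hCP, hCi] at h2
    have h3 : (𝐂₁ x ⊓ C).relIndex C = 1 :=
      Nat.eq_one_of_dvd_one (Nat.dvd_of_mul_dvd_mul_right hp.pos (by rwa [one_mul]))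
    exact (relIndex_eq_one.1 h3).trans inf_le_left
  have hCc : ⁅P, zpowers a⁆ ≤ 𝐂 C := by
    rw [← comm_eq_bot, ← le_bot_iff]
    refine three_subgroup (by simp) (by simp) (by simp) ?_ ?_
    · rw [comm_eq_bot'.2 hCa, commutator_bot_left]
    · rw [le_bot_iff, comm_eq_bot]
      exact (comm_le_left nC).trans hCa
  have hPC : P ≤ 𝐂 C := by
    rw [← comm_sup_inf_cent za (coprime_mono (hA.pi.coprime' hP.pi) (zpowers_le.2 ha) le_rfl)
      (Or.inl (cyc_zpowers a).sol), cent_zpowers, inf_comm]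
    exact sup_le hCc hCC
  have hPa : Abel P := abel_of_cyc_qt (le_inf hCP (cent_symm hPC))
    (cyc_of_prime (by rwa [card_qt nC, hCi]))
  have h2 : ⁅H, H⁆ ≤ ⁅P, A⁆ := by
    have nP : P ≤ 𝐍 ⁅P, A⁆ := norm_comm_left _ _
    have nA : A ≤ 𝐍 ⁅P, A⁆ := norm_comm_right _ _
    conv_lhs => rw [← sd.sup]
    refine comm_sup_le (comm_sup_le' ?_ le_rfl nP nA)
      (comm_sup_le' (commutator_comm _ _).le ?_ nP nA) nP nA
    · rw [der_eq_bot.2 hPa]; exact bot_le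
    · rw [hAA]; exact bot_le
  exact (card_dvd h2).trans (card_comm_dvd_of_refl hp hPa sd.norm (hA.pi.coprime' hP.pi)
    (hAA ▸ bot_le) fun x hx => h1 x (hA.le hx))

theorem MinN.prime_of_class {H M : Subgroup G} (s : Sol H) (hM : M ≤ H) (m : MinN M H)
    (h : ∀ q : ℕ, q.Prime → ∀ x ∈ H, ¬ q ^ 2 ∣ (𝐂₁ x).relIndex H) : (♯M).Prime := by
  obtain ⟨p, hp, hab⟩ := m.exists_abelem (s.mono hM)
  by_cases hc : H ≤ 𝐂 M
  · obtain ⟨X, hX, hX'⟩ := exists_prime_card_le m.ne_bot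
    rwa [← m.min X hX (ne_bot_of_prime_card hX') (norm_of_cent (hc.trans (cent_anti hX)))]
  have nC := normalIn_inf_cent m.norm
  obtain ⟨U, -, hU⟩ := exists_chief_above nC (NormalIn.refl H)
    (lt_of_le_of_ne inf_le_left fun e => hc (e ▸ inf_le_right))
  obtain ⟨q, hq, hqa⟩ := hU.exists_abelem s
  obtain ⟨Q, hQ⟩ := exists_syl q U
  have nU := hU.normalVU
  have hUQ : (H ⊓ 𝐂 M) ⊔ Q = U := by
    have h1 := (hQ.qt nU.norm).eq_of_pi hqa.pi
    rw [← qp_qt (hQ.le.trans nU.norm), h1, qp_qt_of_normal nU]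
  have nQ : Q ≤ 𝐍 M := hQ.le.trans (hU.normal.le.trans m.norm)
  have h1 : ⁅M, U⁆ ≤ ⁅M, Q⁆ := by
    rw [← hUQ]
    refine comm_sup_le' ?_ le_rfl ?_ (norm_comm_right _ _)
    · rw [comm_eq_bot'.2 inf_le_right]; exact bot_le
    · exact norm_of_cent (inf_le_right.trans (cent_anti (comm_le_left nQ)))
  have h2 : ⁅M, U⁆ = M := by
    refine m.min _ (comm_le_left (hU.normal.le.trans m.norm)) (fun e => ?_)
      (norm_commutator m.norm hU.normal.norm)
    exact hU.lt.not_ge (le_inf hU.normal.le (comm_eq_bot'.1 e))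
  rw [h2] at h1
  by_cases e : q = p
  · subst e
    exact absurd h1 (hQ.pi.comm_lt hab.pi nQ m.ne_bot).not_ge
  have h3 := card_comm_dvd_of_refl hp hab.abel nQ ((hQ.pi.of_single_ne e).coprime' hab.pi)
    (((der_mono hQ.le).trans ((abel_qt_iff nU.norm).1 hqa.abel)).trans inf_le_right)
    fun x hx => relIndex_dvd_prime hp hab.pi ⟨hM, m.norm⟩ (h p hp x (hU.normal.le (hQ.le hx)))
  rcases (Nat.dvd_prime hp).1 ((card_dvd h1).trans h3) with h4 | h4
  · exact absurd (card_eq_one'.1 h4) m.ne_bot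
  · rwa [h4]

theorem class_qt {H K : Subgroup G} (n : H ≤ 𝐍 K) {m : ℕ}
    (h : ∀ x ∈ H, ¬ m ∣ (𝐂₁ x).relIndex H) :
    ∀ x ∈ qt K H, ¬ m ∣ (𝐂₁ x).relIndex (qt K H) := by
  intro z hz
  obtain ⟨x, hx, -, rfl⟩ := mem_qt.1 hz
  exact fun e => h x hx (e.trans (relIndex_cent1_qe_dvd n hx))

theorem der_le_F_of_class {H : Subgroup G} (s : Sol H)
    (h : ∀ q : ℕ, q.Prime → ∀ x ∈ H, ¬ q ^ 2 ∣ (𝐂₁ x).relIndex H) : ⁅H, H⁆ ≤ 𝐅 H := by
  refine le_F_of_chief s (der_normal H) fun U V c _ => ?_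
  have h1 := MinN.prime_of_class (s.qt V) (qt_mono V c.normal.le) c.minN
    fun q hq => class_qt c.normV (h q hq)
  have h2 := (cyc_of_prime h1).der_le_cent c.minN.norm
  rw [← qt_comm c.normV c.normV,
    qt_cent_iff ((der_le H).trans c.normV) (c.normal.le.trans c.normV)] at h2
  rwa [commutator_comm]

theorem logn_der_le_of_class {H : Subgroup G} (s : Sol H)
    (h : ∀ q : ℕ, q.Prime → ∀ x ∈ H, ¬ q ^ 2 ∣ (𝐂₁ x).relIndex H) (hp : p.Prime) :
    logn p (♯⁅H, H⁆) ≤ 1 := by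
  have h1 := (nil_of_le_F (der_le_F_of_class s h)).hall_O {p}ᶜ
  have n := ((der_normal H).O {p}ᶜ).norm
  have h2 := card_der_dvd_of_pi hp (H := qt (𝐎 {p}ᶜ ⁅H, H⁆) H) (by
    rw [← qt_comm n n, piGrp_qt_iff ((der_le H).trans n)]
    exact h1.idx.of_compl_compl) (class_qt n (h p hp))
  rw [← qt_comm n n, card_qt ((der_le H).trans n)] at h2
  rw [logn_card_eq_add h1.le, logn_eq_zero h1.pi, zero_add]
  exact (logn_le_of_dvd h2 hp.ne_zero).trans (logn_self hp).le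

end CF.Fgs3
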