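import Cfsg.Agent.Fgs3.SylCount
import Cfsg.Agent.BG.B11

/-! Product formulas for the number of Sylow subgroups (M. Hall). -/

namespace CF.Fgs3

open MulAction Subgroup CF.BG

variable {G : Type*} [Group G] [Finite G] {p : ℕ} [hp : Fact p.Prime]

theorem card_sylow_sub {P H : Subgroup G} (h : Syl p P H) :
    Nat.card (Sylow p H) = (𝐍 P).relIndex H := by
  obtain ⟨Q, rfl⟩ := h.exists_sylow
  rw [Q.card_eq_index_normalizer, relIndex]
  congr 1
  ext x
  rw [mem_subgroupOf]
  have := map_norm_iff (A := zpowers x) (H := (Q : Subgroup H)) H.subtype_injective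
  rw [MonoidHom.map_zpowers, zpowers_le, zpowers_le] at this
  exact this.symm

theorem card_sylow_top (P : Sylow p G) : Nat.card (Sylow p G) = (𝐍 (P : Subgroup G)).index :=
  P.card_eq_index_normalizer

omit hp in
theorem relIndex_sup_of_le {A P K : Subgroup G} (hPA : P ≤ A) (n : P ≤ 𝐍 K) :
    A.relIndex (P ⊔ K) = A.relIndex K := by
  rw [← inf_relIndex_right A (P ⊔ K), inf_sup_left hPA (Or.inl n)]
  have h1 : A ⊓ K ≤ P ⊔ (A ⊓ K) := le_sup_right
  have h2 : P ⊔ K = (P ⊔ (A ⊓ K)) ⊔ K := by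
    rw [sup_assoc, sup_eq_right.2 (inf_le_right : A ⊓ K ≤ K)]
  conv_lhs => rw [h2]
  rw [relIndex_sup_norm' (Or.inr (sup_le n (inf_le_right.trans (le_norm_self K)))),
    ← inf_relIndex_right _ K, ← inf_relIndex_right A K]
  congr 1
  refine le_antisymm (le_inf (inf_le_left.trans (sup_le hPA inf_le_left)) inf_le_right)
    (le_inf h1 inf_le_right)

/-- `n_p(G) = n_p(K) n_p(N(P ⊓ K))` for a normal subgroup `K`. -/
theorem card_sylow_eq_mul_norm (P : Sylow p G) (K : Subgroup G) [hK : K.Normal] :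
    Nat.card (Sylow p G) =
      Nat.card (Sylow p K) * Nat.card (Sylow p (𝐍 ((P : Subgroup G) ⊓ K))) := by
  have hP := syl_sylow_top P
  have hK' : K ⊴ ⊤ := normalIn_top.2 hK
  have h1 := hP.inf_normal hK'
  have h2 : 𝐍 (P : Subgroup G) ≤ 𝐍 ((P : Subgroup G) ⊓ K) :=
    norm_inf le_rfl (le_top.trans hK'.norm)
  have h3 := h1.syl_frattini_sup hK'
  rw [top_inf_eq] at h3
  rw [card_sylow_top P, card_sylow_sub h1,
    card_sylow_sub (hP.of_le ((le_norm_self _).trans h2) le_top), mul_comm,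
    ← relIndex_sup_norm (Or.inr (le_top.trans hK'.norm)), h3, relIndex_top_right,
    relIndex_mul_index h2]

/-- `n_p(G) = n_p(G/K) [K : N_K(P)]` for a normal subgroup `K`. -/
theorem card_sylow_eq_mul_quot (P : Sylow p G) (K : Subgroup G) [hK : K.Normal] :
    Nat.card (Sylow p G) =
      Nat.card (Sylow p (G ⧸ K)) * (𝐍 (P : Subgroup G)).relIndex K := by
  have hP := syl_sylow_top P
  have hK' : K ⊴ ⊤ := normalIn_top.2 hK
  have n : ∀ X : Subgroup G, X ≤ 𝐍 K := fun X => le_top.trans hK'.norm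
  have hf := QuotientGroup.mk'_surjective K
  have h1 : (𝐍 ((P.mapSurjective hf : Sylow p (G ⧸ K)) : Subgroup (G ⧸ K))).comap
      (QuotientGroup.mk' K) = 𝐍 (P : Subgroup G) ⊔ K := by
    rw [comap_normalizer_eq_of_surjective _ hf]
    have h2 : ((P.mapSurjective hf : Sylow p (G ⧸ K)) : Subgroup (G ⧸ K)).comap
        (QuotientGroup.mk' K) = (P : Subgroup G) ⊔ K := by
      rw [Sylow.coe_mapSurjective, comap_map_eq, QuotientGroup.ker_mk']
    rw [h2]
    have h3 := (hP.of_le (le_sup_left : (P : Subgroup G) ≤ (P : Subgroup G) ⊔ K) le_top).syl_frattini_sup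
      (normalIn_norm _)
    refine le_antisymm ?_ (sup_le (norm_sup le_rfl (n _)) (le_sup_right.trans (le_norm_self _)))
    rw [← h3]
    exact sup_le (sup_le_sup_right (le_norm_self _) _) (inf_le_right.trans le_sup_left)
  rw [card_sylow_top P, card_sylow_top (P.mapSurjective hf), ← index_comap_of_surjective _ hf, h1,
    ← relIndex_sup_norm' (H := K) (Or.inr (n _)), mul_comm, relIndex_mul_index le_sup_left]

theorem relIndex_norm_modEq (P : Sylow p G) {Q : Subgroup G} (n : (P : Subgroup G) ≤ 𝐍 Q) :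
    (𝐍 (P : Subgroup G)).relIndex Q ≡ 1 [MOD p] := by
  rw [← relIndex_sup_of_le (le_norm_self _) n,
    ← card_sylow_sub ((syl_sylow_top P).of_le le_sup_left le_top)]
  exact card_sylow_modEq_one p _

/-- For a normal `p'`-subgroup `K`, each prime-power part of `[K : N_K(P)]` is `1` mod `p`. -/
theorem pow_logn_relIndex_modEq (P : Sylow p G) {K : Subgroup G} (n : (P : Subgroup G) ≤ 𝐍 K)
    (hK : PiGrp {p}ᶜ K) (q : ℕ) :
    q ^ logn q ((𝐍 (P : Subgroup G)).relIndex K) ≡ 1 [MOD p] := by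
  have hP := syl_sylow_top P
  obtain ⟨Q₀, hQ₀⟩ := exists_syl q (𝐍 (P : Subgroup G) ⊓ K)
  have hc : Q₀ ≤ 𝐂 (P : Subgroup G) :=
    (hQ₀.le.trans (inf_comm _ _).le).trans (inf_norm_le_cent n (hP.pi.inf_eq_bot hK))
  obtain ⟨Q, hQ, nQ, hle⟩ := exists_syl_inv_le n (hP.pi.coprime hK) (Or.inl hP.pi.sol)
    (hQ₀.le.trans inf_le_right) hQ₀.pi (norm_of_cent' hc)
  have h1 : Q₀ = 𝐍 (P : Subgroup G) ⊓ Q :=
    hQ₀.eq_of_le (le_inf (hQ₀.le.trans inf_le_left) hle) (inf_le_inf_left _ hQ.le)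
      hQ.pi.inf_right
  have h2 := relIndex_norm_modEq P nQ
  have h3 := (hQ.pi.relIndex (𝐍 (P : Subgroup G))).eq_pow_logn (relIndex_ne_zero' _ _)
  have h4 := logn_card_eq_add (p := q) (inf_le_right : 𝐍 (P : Subgroup G) ⊓ Q ≤ Q)
  have h5 := logn_card_eq_add (p := q) (inf_le_right : 𝐍 (P : Subgroup G) ⊓ K ≤ K)
  rw [inf_relIndex_right] at h4 h5
  rw [← h1, hQ₀.logn_eq rfl, hQ.logn_eq rfl] at h4
  rw [h3] at h2
  rwa [show logn q ((𝐍 (P : Subgroup G)).relIndex K) =
    logn q ((𝐍 (P : Subgroup G)).relIndex Q) by omega]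

/-- M. Hall's theorem in inductive form: a multiplicative property holding for prime powers
congruent to one and for Sylow numbers of simple groups holds for all Sylow numbers. -/
theorem sylow_prod_induction.{u} (Good : ℕ → Prop) (h1 : Good 1)
    (hmul : ∀ a b, Good a → Good b → Good (a * b))
    (hpp : ∀ m, IsPrimePow m → m % p = 1 → Good m)
    (G : Type u) [Group G] [Finite G]
    (hs : ∀ (S : Type u) [Group S] [Finite S], IsSimpleGroup S → Nat.card S ≤ Nat.card G →
      Good (Nat.card (Sylow p S))) : Good (Nat.card (Sylow p G)) := by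
  induction hm : Nat.card G using Nat.strong_induction_on generalizing G with
  | _ m ih =>
  subst hm
  have ih' : ∀ (L : Type u) [Group L] [Finite L], Nat.card L < Nat.card G →
      Good (Nat.card (Sylow p L)) := fun L _ _ hL =>
    ih _ hL L (fun S _ _ h1 h2 => hs S h1 (h2.trans hL.le)) rfl
  have hsub : ∀ N : Subgroup G, N ≠ ⊤ → Good (Nat.card (Sylow p N)) := fun N hN =>
    ih' N (by rw [← card_top' (G := G)]; exact card_lt (lt_top_iff_ne_top.2 hN))
  have hquo : ∀ (N : Subgroup G) [N.Normal], N ≠ ⊥ → Good (Nat.card (Sylow p (G ⧸ N))) := by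
    intro N _ hN
    refine ih' _ ?_
    rw [← N.card_mul_index, ← N.index_eq_card]
    have h2 : 1 < Nat.card N := one_lt_card.2 hN
    have h3 : 0 < N.index := Nat.pos_of_ne_zero index_ne_zero_of_finite
    nlinarith
  obtain ⟨P⟩ : Nonempty (Sylow p G) := inferInstance
  rcases subsingleton_or_nontrivial G with h | h
  · rw [card_sylow_top P, Subsingleton.elim (𝐍 (P : Subgroup G)) ⊤, index_top]
    exact h1
  by_cases hG : IsSimpleGroup G
  · exact hs G hG le_rfl
  obtain ⟨K, hK, hK1, hK2⟩ : ∃ K : Subgroup G, K.Normal ∧ K ≠ ⊥ ∧ K ≠ ⊤ := by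
    by_contra h'
    refine hG ⟨fun K hK => ?_⟩
    by_contra h''
    rw [not_or] at h''
    exact h' ⟨K, hK, h''.1, h''.2⟩
  by_cases hN : 𝐍 ((P : Subgroup G) ⊓ K) = ⊤
  swap
  · rw [card_sylow_eq_mul_norm P K]
    exact hmul _ _ (hsub _ hK2) (hsub _ hN)
  have hK' : K ⊴ ⊤ := normalIn_top.2 hK
  have hP := syl_sylow_top P
  by_cases hPK : (P : Subgroup G) ⊓ K = ⊥
  swap
  · have hn : (P : Subgroup G) ⊓ K ⊴ ⊤ := ⟨le_top, hN.ge⟩
    have := normalIn_top.1 hn
    rw [← CF.Fgs2.card_sylow_quotient ((P : Subgroup G) ⊓ K) fun Q =>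
      ((syl_sylow_top Q).le_of_normal hn hP.pi.inf_left).trans (le_norm_self _)]
    exact hquo _ hPK
  have hKp : PiGrp {p}ᶜ K := by
    have := hP.inf_normal hK'
    rw [hPK] at this
    exact this.pi'_of_eq_bot
  rw [card_sylow_eq_mul_quot P K]
  refine hmul _ _ (hquo K hK1) ?_
  have h0 := relIndex_ne_zero' (𝐍 (P : Subgroup G)) K
  rw [← Nat.prod_factorization_pow_eq_self h0, Finsupp.prod]
  refine Finset.prod_induction _ Good hmul h1 fun q hq => ?_
  have h2 := pow_logn_relIndex_modEq P (le_top.trans hK'.norm) hKp q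
  have hq' : q.Prime := Nat.prime_of_mem_primeFactors hq
  refine hpp _ ⟨q, _, hq'.prime, Nat.pos_of_ne_zero (Finsupp.mem_support_iff.1 hq), rfl⟩ ?_
  rw [← Nat.mod_eq_of_lt hp.out.one_lt]
  exact h2

end CF.Fgs3
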